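import Groth.Agent.CurvesB.HZero
import Groth.Agent.VarietyA.GlobGen
import Groth.Agent.Dcoh.MonInst
import Groth.Agent.Ega2.Tens
import Groth.Agent.PerfB.UnitEnd

/-!
# Tensoring maps with an invertible module

* `subsingleton_H0`: `H^0(M) = 0` if all maps `O → M` vanish;
* `eq_zero_of_whiskerLeft`: `L ◁ f = 0` implies `f = 0` if `L` has an inverse;
* `hom_tensor_eq_zero`: if all maps `A ⊗ P → w` vanish then all maps `A → w ⊗ P'` vanish (`P'` inverse of `P`);
* `hom_twist_eq_zero`: if all maps `A → B` vanish then all maps `A ⊗ P → B ⊗ P` vanish (`P` invertible);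
* `hom_untwist_eq_zero`: the converse;
* `eq_zero_of_pullback`: `h⁰(O) = 1`, `E` generated by finitely many global sections: a map `E → O` which vanishes
  after pullback to some nonempty scheme is zero.
-/

set_option autoImplicit false
universe u v
open CategoryTheory CategoryTheory.Limits AlgebraicGeometry TopologicalSpace Opposite MonoidalCategory

namespace K417.InvVan

section Mon

variable {C : Type u} [Category.{v} C] [MonoidalCategory C] [Preadditive C] [MonoidalPreadditive C]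

theorem eq_zero_of_whiskerLeft {L M A B : C} (e : M ⊗ L ≅ 𝟙_ C) (f : A ⟶ B) (h : L ◁ f = 0) : f = 0 := by
  have h1 : (M ⊗ L) ◁ f = 0 := by
    rw [MonoidalCategory.tensor_whiskerLeft, h, MonoidalPreadditive.whiskerLeft_zero]
    simp
  have h2 : (𝟙_ C) ◁ f = 0 := by
    have h3 := MonoidalCategory.whisker_exchange e.inv f
    rw [h1, comp_zero] at h3
    have h4 : 𝟙_ C ◁ f = (𝟙_ C ◁ f ≫ e.inv ▷ B) ≫ e.hom ▷ B := by
      rw [Category.assoc, ← MonoidalCategory.comp_whiskerRight, e.inv_hom_id, MonoidalCategory.id_whiskerRight,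
        Category.comp_id]
    rw [h4, h3, zero_comp]
  have h5 := MonoidalCategory.id_whiskerLeft f
  rw [h2] at h5
  have h6 : f = (λ_ A).inv ≫ ((λ_ A).hom ≫ f ≫ (λ_ B).inv) ≫ (λ_ B).hom := by simp
  rw [h6, ← h5]
  simp

theorem eq_zero_of_whiskerRight {L M A B : C} (e : L ⊗ M ≅ 𝟙_ C) (f : A ⟶ B) (h : f ▷ L = 0) : f = 0 := by
  have h1 : f ▷ (L ⊗ M) = 0 := by
    rw [MonoidalCategory.whiskerRight_tensor, h, MonoidalPreadditive.zero_whiskerRight]
    simp
  have h2 : f ▷ (𝟙_ C) = 0 := by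
    have h3 := MonoidalCategory.whisker_exchange f e.inv
    rw [h1, comp_zero] at h3
    have h4 : f ▷ 𝟙_ C = (f ▷ 𝟙_ C ≫ B ◁ e.inv) ≫ B ◁ e.hom := by
      rw [Category.assoc, ← MonoidalCategory.whiskerLeft_comp, e.inv_hom_id, MonoidalCategory.whiskerLeft_id,
        Category.comp_id]
    rw [h4, ← h3, zero_comp]
  have h5 := MonoidalCategory.whiskerRight_id f
  rw [h2] at h5
  have h6 : f = (ρ_ A).inv ≫ ((ρ_ A).hom ≫ f ≫ (ρ_ B).inv) ≫ (ρ_ B).hom := by simp
  rw [h6, ← h5]
  simp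

theorem twist_eq_zero {A B P P' : C} (e : P ⊗ P' ≅ 𝟙_ C) (e' : P' ⊗ P ≅ 𝟙_ C)
    (h : ∀ f : A ⟶ B, f = 0) (g : A ⊗ P ⟶ B ⊗ P) : g = 0 := by
  apply eq_zero_of_whiskerRight e' g
  have ei : ∀ M : C, (M ⊗ P) ⊗ P' ≅ M := fun M => α_ M P P' ≪≫ (M ◁ᵢ e) ≪≫ ρ_ M
  have h1 := h ((ei A).inv ≫ g ▷ P' ≫ (ei B).hom)
  rw [← cancel_mono (ei B).hom, ← cancel_epi (ei A).inv, h1, zero_comp, comp_zero]

end Mon

open scoped Groth.Agent.Dcoh.MonCat

variable {X : Scheme.{u}}

/-- A map of modules vanishes if it does after tensoring with a module having an inverse. -/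
theorem eq_zero_of_tensor {L M A B : X.Modules} (h : ClSub.IsInverseOf M L) (f : A ⟶ B)
    (hf : (DCoh.tensorBi.obj L).map f = 0) : f = 0 := by
  obtain ⟨e⟩ := h
  exact eq_zero_of_whiskerLeft (C := X.Modules) (L := L) (M := M) e f hf

/-- `H^0(M) = 0` if all maps `O → M` vanish. -/
theorem subsingleton_H0 {M : X.Modules} (h : ∀ f : Coh.structureModule X ⟶ M, f = 0) :
    Subsingleton (Coh.HH X M 0) := by
  have key : ∀ t : Γ(M, ⊤), t = 0 := by
    intro t
    let s := Groth.Agent.VarietyA.GlobGen.sectionsOf t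
    let z : SheafOfModules.unit X.ringCatSheaf ⟶ M := (0 : Coh.structureModule X ⟶ M)
    have h1 : (SheafOfModules.unitHomEquiv M).symm s = z := h _
    have h2 : s = SheafOfModules.unitHomEquiv M z := by rw [← h1, Equiv.apply_symm_apply]
    have h3 := congrArg (fun s : SheafOfModules.sections M => s.1 (op ⊤)) h2
    have h4 : s.1 (op ⊤) = t := by
      change M.presheaf.map (𝟙 _) t = t
      rw [CategoryTheory.Functor.map_id]
      rfl
    exact h4.symm.trans h3
  have : Subsingleton Γ(M, ⊤) := ⟨fun a b => (key a).trans (key b).symm⟩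
  exact (Groth.Agent.CurvesB.HZero.equivAdd M).toEquiv.subsingleton

theorem isInverseOf_symm {P P' : X.Modules} (h : ClSub.IsInverseOf P P') : ClSub.IsInverseOf P' P :=
  ⟨(show (P' ⊗ P : X.Modules) ≅ P ⊗ P' from β_ P' P) ≪≫ h.some⟩

/-- Untwisting. -/
noncomputable def untw {P P' : X.Modules} (hP : ClSub.IsInverseOf P P') (M : X.Modules) :
    CohB1.tensorMod (CohB1.tensorMod M P) P' ≅ M :=
  (show ((M ⊗ P) ⊗ P' : X.Modules) ≅ M from α_ M P P' ≪≫ (M ◁ᵢ hP.some) ≪≫ ρ_ M)

/-- Maps into a twist: if all maps `P ⊗ A → w` vanish then all maps `A → w ⊗ P'` vanish for the inverse `P'` of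
`P`. -/
theorem hom_tensor_eq_zero {A w P P' : X.Modules} (hP : ClSub.IsInverseOf P P')
    (h : ∀ f : CohB1.tensorMod P A ⟶ w, f = 0) (g : A ⟶ CohB1.tensorMod w P') : g = 0 := by
  have hP' : ClSub.IsInverseOf P' P := isInverseOf_symm hP
  refine eq_zero_of_tensor (L := P) (M := P') hP' g ?_
  let e : CohB1.tensorMod P (CohB1.tensorMod w P') ≅ w :=
    (show (P ⊗ (w ⊗ P') : X.Modules) ≅ w from
      (α_ P w P').symm ≪≫ (β_ P w ▷ᵢ P' ≪≫ α_ w P P') ≪≫ (w ◁ᵢ hP.some) ≪≫ ρ_ w)
  have h1 := h ((DCoh.tensorBi.obj P).map g ≫ e.hom)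
  exact (cancel_mono e.hom).1 (h1.trans zero_comp.symm)

/-- If `f ⊗ P = 0` with `P` invertible then `f = 0`. -/
theorem eq_zero_of_tensor_right {P P' A B : X.Modules} (h : ClSub.IsInverseOf P P') (f : A ⟶ B)
    (hf : (DCoh.tensorBi.flip.obj P).map f = 0) : f = 0 := by
  refine eq_zero_of_tensor (L := P) (M := P') (isInverseOf_symm h) f ?_
  have h1 : (f ▷ P : (A ⊗ P : X.Modules) ⟶ B ⊗ P) = 0 := hf
  have h2 : (P ◁ f : (P ⊗ A : X.Modules) ⟶ P ⊗ B) = 0 := by
    have h3 := BraidedCategory.braiding_naturality_right P f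
    rw [h1, comp_zero] at h3
    rw [← cancel_mono (β_ P B).hom, h3, zero_comp]
  exact h2

/-- If all maps `A → B` vanish then all maps `A ⊗ P → B ⊗ P` vanish. -/
theorem hom_twist_eq_zero {A B P P' : X.Modules} (hP : ClSub.IsInverseOf P P')
    (h : ∀ f : A ⟶ B, f = 0) (g : CohB1.tensorMod A P ⟶ CohB1.tensorMod B P) : g = 0 := by
  obtain ⟨e'⟩ := isInverseOf_symm hP
  obtain ⟨e⟩ := hP
  exact twist_eq_zero (C := X.Modules) e e' h g

/-- If all maps `A ⊗ P → B ⊗ P` vanish then all maps `A → B` vanish. -/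
theorem hom_untwist_eq_zero {A B P P' : X.Modules} (hP : ClSub.IsInverseOf P P')
    (h : ∀ g : CohB1.tensorMod A P ⟶ CohB1.tensorMod B P, g = 0) (f : A ⟶ B) : f = 0 :=
  eq_zero_of_tensor_right hP f (h _)

section Unit

open Groth.Agent.PerfB.UnitEnd Groth.Agent.Fga.UnitRestrict

lemma eq_zero_of_sec (a : Coh.structureModule X ⟶ Coh.structureModule X) (h : sec a = 0) : a = 0 := by
  apply Scheme.Modules.hom_ext
  intro U
  ext t
  have h1 := fn_eq a U t
  rw [h, map_zero] at h1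
  exact h1.trans (mul_zero (M₀ := Γ(X, U)) t)

/-- If `g^*` kills `a : O_X ⟶ O_X`, then `g^#` kills the function `a(1)`. -/
lemma appTop_sec_eq_zero (a : Coh.structureModule X ⟶ Coh.structureModule X) {T : Scheme.{u}}
    (g : T ⟶ X) (h : (Scheme.Modules.pullback g).map a = 0) : g.appTop (sec a) = 0 := by
  have e : a ≫ unitToPush g = 0 := by
    rw [← unit_pullbackUnitHom]
    have := (Scheme.Modules.pullbackPushforwardAdjunction g).unit.naturality a
    rw [Functor.id_map] at this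
    rw [← Category.assoc, this, Functor.comp_map, h, Functor.map_zero, comp_zero, zero_comp]
  have h1 := congrArg (fun φ : Coh.structureModule X ⟶ _ => (Scheme.Modules.Hom.app φ ⊤) (1 : Γ(X, ⊤))) e
  exact h1

/-- A map `E → O` vanishes if its pullback to a nonempty scheme does (`E` globally generated, `h⁰(O) = 1`). -/
theorem eq_zero_of_pullback (k : Type u) [Field k] [X.Over (Spec (CommRingCat.of k))]
    (h0 : Module.finrank k (Coh.HH X (Coh.structureModule X) 0) = 1) {E : X.Modules} {n : ℕ}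
    (p : FlatMod.freeMod X n ⟶ E) (hp : Epi p) (f : E ⟶ Coh.structureModule X) {T : Scheme.{u}} [Nonempty T]
    (g : T ⟶ X) (h : (Scheme.Modules.pullback g).map f = 0) : f = 0 := by
  rw [← cancel_epi p, comp_zero]
  refine Sigma.hom_ext (f := fun _ : Fin n => Coh.structureModule X) _ _ fun i => ?_
  rw [comp_zero]
  apply eq_zero_of_sec
  set a := (Sigma.ι (fun _ : Fin n => Coh.structureModule X) i ≫ p ≫ f :
    Coh.structureModule X ⟶ Coh.structureModule X) with ha
  obtain ⟨c, hc⟩ := Groth.Agent.CurvesB.HZero.exists_const k h0 (sec a)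
  have h1 : g.appTop (sec a) = 0 := by
    apply appTop_sec_eq_zero
    rw [ha, Functor.map_comp, Functor.map_comp, h, comp_zero, comp_zero]
  rw [← hc] at h1 ⊢
  have hnt : Nontrivial Γ(T, ⊤) := by
    have hne : Nonempty (⊤ : T.Opens) := ⟨⟨Classical.arbitrary T, trivial⟩⟩
    exact Scheme.component_nontrivial T ⊤
  have h2 : c = 0 := by
    by_contra hc0
    have h3 : IsUnit ((g.appTop.hom.comp (Groth.Agent.CurvesB.HZero.gl k X)) c) :=
      (isUnit_iff_ne_zero.mpr hc0).map _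
    have h4 : (g.appTop.hom.comp (Groth.Agent.CurvesB.HZero.gl k X)) c = 0 := h1
    rw [h4] at h3
    exact not_isUnit_zero h3
  rw [h2, map_zero]

end Unit

end K417.InvVan
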