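import Groth.Agent.Curves.K326.SemiStab
import Groth.Agent.S7637

/-!
# Degrees of the dualizing module and of its inverse on subcurves of a nodal curve

Algebraically closed base field, `X` proper, connected, at-worst-nodal of dimension one, `(w, t)` a dual pair.

* `isNode_of_mem`: points common to a union of components and the closure of its complement are nodes;
* `deg_w`: `deg w|_J = 2 g_J - 2 + #(J ∩ J^c)`;
* `deg_inverse`: the degree of the inverse of `w` on `J`;
* `exists_neg`: a reduced connected subcurve `J` with `deg L|_J ≤ -2 χ(O_J)` if `H^1(L) ≠ 0`;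
* `main`: genus zero and at most three nodes: `H^1(w^{-1}) = 0`, `h^0(w^{-1}) = 3`.
-/

set_option autoImplicit false
universe u
open CategoryTheory CategoryTheory.Limits AlgebraicGeometry TopologicalSpace Opposite

namespace K417.NodalDeg

open Groth.Agent Groth.Agent.CurvesC Groth.Agent.CurvesC.TailGeom Groth.Agent.CurvesC.TailNum
open Groth.Agent.CurvesC.DegIso Groth.Agent.CurvesC.DualCount Groth.Agent.CurvesB Groth.Agent.CurvesB.SubH1

attribute [local instance] subOver

section tensor

variable (k : Type u) [Field k]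

theorem deg_unit (X : Scheme.{u}) [X.Over (Spec (CommRingCat.of k))] : Curv2.deg k X (Coh.structureModule X) 1 = 0 := by
  unfold Curv2.deg
  ring

theorem deg_tensor (X : Scheme.{u}) [X.Over (Spec (CommRingCat.of k))] [IsProper (X ↘ (Spec (CommRingCat.of k)))]
    (hdim : topologicalKrullDim X ≤ 1) {L M : X.Modules} (hL : PicF.IsInvertible L) (hM : PicF.IsInvertible M) :
    Curv2.deg k X (CohB1.tensorMod L M) 1 = Curv2.deg k X L 1 + Curv2.deg k X M 1 := by
  have h := Groth.Agent.S7637.result k X hdim 1 1 L M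
    (Groth.Agent.Ega2.QCohLocal.isFinLocFreeOfRank_one_iff.mpr hL)
    (Groth.Agent.Ega2.QCohLocal.isFinLocFreeOfRank_one_iff.mpr hM)
  simp only [mul_one, Nat.cast_one, one_mul] at h
  rw [h, add_comm]

theorem deg_inverse (X : Scheme.{u}) [X.Over (Spec (CommRingCat.of k))] [IsProper (X ↘ (Spec (CommRingCat.of k)))]
    (hdim : topologicalKrullDim X ≤ 1) {L M : X.Modules} (h : ClSub.IsInverseOf L M) :
    Curv2.deg k X L 1 = - Curv2.deg k X M 1 := by
  obtain ⟨hL, hM⟩ := Dix.IdealModCartier.isInvertible_of_isInverseOf h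
  have h1 := deg_tensor k X hdim hL hM
  obtain ⟨e⟩ := h
  rw [deg_congr k e, deg_unit] at h1
  omega

end tensor

variable (k : Type u) [Field k] (X : Scheme.{u}) [X.Over (Spec (CommRingCat.of k))]
  [IsProper (X ↘ (Spec (CommRingCat.of k)))]

/-- A subcurve on which the degree is very negative. -/
theorem exists_neg [IsReduced X] [ConnectedSpace X] (hdim : topologicalKrullDim X = 1) (L : X.Modules)
    (hL : PicF.IsInvertible L) (hcon : ¬ Subsingleton (Coh.HH X L 1)) :
    ∃ J : X.IdealSheafData, IsReduced J.subscheme ∧ ConnectedSpace J.subscheme ∧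
      topologicalKrullDim J.subscheme = 1 ∧
      Curv2.deg k J.subscheme ((Scheme.Modules.pullback J.subschemeι).obj L) 1 ≤
        -2 * Curv2.euler k J.subscheme (Coh.structureModule J.subscheme) := by
  rw [not_subsingleton_iff_nontrivial] at hcon
  have hiso : IsIso (SubRank.twι L (⊤ : X.IdealSheafData)) := by
    have h1 : Mono (SubRank.twι L (⊤ : X.IdealSheafData)) := SubRank.mono_twι hL _
    have h2 : Epi (SubRank.twι L (⊤ : X.IdealSheafData)) := by
      refine Groth.Agent.VarietyA.StalkCrit.epi_of_stalks _ fun x => (SubRank.stalkLin_twι_bijective hL _ x ?_).2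
      rw [Scheme.IdealSheafData.support_top]
      exact id
    exact isIso_of_mono_of_epi _
  let e := asIso (SubRank.twι L (⊤ : X.IdealSheafData))
  have hne : Nontrivial (Coh.HH X (CohB1.tensorMod (ClSub.idealMod (⊤ : X.IdealSheafData)) L) 1) :=
    (Fga.EulerIso.HHequiv k e 1).toEquiv.nontrivial
  obtain ⟨J, hJr, hJc, hJd, hJ⟩ := Groth.Agent.S1605.result k X hdim L hL ⊤
    (by
      rw [Scheme.IdealSheafData.support_top]
      have hE : IsEmpty ((⊥ : Closeds X) : Set X) := ⟨fun x => x.2⟩
      have hE2 : IsEmpty (IrreducibleCloseds ((⊥ : Closeds X) : Set X)) :=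
        ⟨fun Z => by obtain ⟨x, -⟩ := Z.isIrreducible.1; exact hE.false x⟩
      have : topologicalKrullDim (((⊥ : Closeds X) : Set X) : Type u) = ⊥ := Order.krullDim_eq_bot
      rw [this]
      exact bot_le) hne
  rw [VanAsm464.finrank_quotMod_top k J] at hJ
  refine ⟨J, hJr, hJc, hJd, ?_⟩
  have h5 : Curv2.deg k J.subscheme ((Scheme.Modules.pullback J.subschemeι).obj L) 1 ≤
    -2 * Curv2.euler k J.subscheme (Coh.structureModule J.subscheme) + ((0 : ℕ) : ℤ) := hJ
  simpa using h5

variable [IsReduced X] [ConnectedSpace X]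

omit [ConnectedSpace X] in
/-- Points common to a union of components and the closure of its complement are nodes. -/
theorem isNode_of_mem (hdim : topologicalKrullDim X ≤ 1) (hX : Curv2.AtWorstNodal k X) (Y : Closeds X)
    (hY : (Y : Set X) ⊆ closure (interior Y)) (x : X) (hx : x ∈ (Y : Set X)) (hx' : x ∈ closure (Y : Set X)ᶜ) :
    Curv2.IsNode k X x := by
  have hN : IsNoetherian X := Groth.Agent.VarietyB.DegFin.isNoetherian_of_isProper k X
  rcases hX x (K326.NodeInter.isClosed_of_mem hdim Y hY x hx hx') with h | h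
  · exfalso
    have := NodeSch2.isRegularLocalRing_of_exists k x h
    exact K326.NodeInter.not_isDomain Y hY x hx hx' (Groth.Agent.CalgA.RegBasic.isDomain _)
  · exact h

variable [IsAlgClosed k]

/-- The degree formula on connected subcurves. -/
theorem deg_w (hdim : topologicalKrullDim X = 1) (hX : Curv2.AtWorstNodal k X)
    (w : X.Modules) (hw : PicF.IsInvertible w) {t : Coh.HH X w 1 →ₗ[k] k} (ht : IsPair k t)
    (J : X.IdealSheafData) [IsReduced J.subscheme] [ConnectedSpace J.subscheme]
    (hJ1 : topologicalKrullDim J.subscheme = 1) :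
    Curv2.deg k J.subscheme ((Scheme.Modules.pullback J.subschemeι).obj w) 1 =
      2 * (Curv2.genus k J.subscheme : ℤ) - 2 + (((J.support : Set X) ∩ closure (J.support : Set X)ᶜ).ncard : ℤ) := by
  have hP : IsProper (J.subscheme ↘ Spec (CommRingCat.of k)) :=
    inferInstanceAs (IsProper (J.subschemeι ≫ (X ↘ (Spec (CommRingCat.of k)))))
  have hN1 := K326.SemiStab.isNoetherian_sub k X J
  have hN2 := Groth.Agent.VarietyB.DegFin.isNoetherian_of_isProper k X
  have hpure := TailMain.pure_of_connected J.subscheme hJ1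
  have hci := TailUnion.subset_closure_interior hdim.le J hpure
  have h1 := DualDegForm.deg_form k hdim w hw ht J.support hci
  have h2 := K326.DegPts.finrank_inter k X hdim.le hX J.support hci
  rw [← TailUnion.eq_vanishingIdeal J] at h1 h2
  have h3 : Module.finrank k (Coh.HH X (ClSub.quotMod J) 0) = 1 := by
    rw [← finrank_quotMod k X J 0]
    exact K326.DegPts.finrank_zero k J.subscheme
  have h4 : Module.finrank k (Coh.HH X (ClSub.quotMod J) 1) = Curv2.genus k J.subscheme :=
    (finrank_quotMod k X J 1).symm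
  rw [h2, h3, h4] at h1
  have h5 : Curv2.deg k J.subscheme ((Scheme.Modules.pullback J.subschemeι).obj w) 1 =
    (((J.support : Set X) ∩ closure (J.support : Set X)ᶜ).ncard : ℤ) -
      2 * (((1 : ℕ) : ℤ) - (Curv2.genus k J.subscheme : ℤ)) := h1
  rw [h5]
  push_cast
  ring

/-- At most three nodes and genus zero: `H^1` of the inverse of the dualizing module vanishes. -/
theorem subsingleton_H1_inverse (hdim : topologicalKrullDim X = 1) (hX : Curv2.AtWorstNodal k X)
    (hg : Curv2.genus k X = 0) (h3 : {x : X | Curv2.IsNode k X x}.encard ≤ 3)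
    (w : X.Modules) {t : Coh.HH X w 1 →ₗ[k] k} (ht : IsPair k t) (wd : X.Modules)
    (hwd : ClSub.IsInverseOf wd w) : Subsingleton (Coh.HH X wd 1) := by
  obtain ⟨hi, hw⟩ := Dix.IdealModCartier.isInvertible_of_isInverseOf hwd
  by_contra hcon
  obtain ⟨J, hJr, hJc, hJd, hJ⟩ := exists_neg k X hdim wd hi hcon
  have hP : IsProper (J.subscheme ↘ Spec (CommRingCat.of k)) :=
    inferInstanceAs (IsProper (J.subschemeι ≫ (X ↘ (Spec (CommRingCat.of k)))))
  have hN1 := K326.SemiStab.isNoetherian_sub k X J
  have hpure := TailMain.pure_of_connected J.subscheme hJd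
  have hN2 := Groth.Agent.VarietyB.DegFin.isNoetherian_of_isProper k X
  have hci := TailUnion.subset_closure_interior hdim.le J hpure
  have h1 := deg_w k X hdim hX w hw ht J hJd
  have h2 : Curv2.genus k J.subscheme = 0 :=
    Nat.le_zero.mp ((K326.SemiStab.genus_sub_le k X hdim.le J).trans hg.le)
  have h4 := CurvesC.CurveCoh.euler_eq k J.subscheme hJd (Coh.structureModule J.subscheme)
  have h5 : Module.finrank k (Coh.HH J.subscheme (Coh.structureModule J.subscheme) 1) = 0 := h2
  rw [K326.DegPts.finrank_zero k J.subscheme, h5] at h4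
  have h6 := deg_inverse k J.subscheme hJd.le
    (K326.DegPts.isInverseOf_pullback J.subschemeι hwd)
  have h7 : ((J.support : Set X) ∩ closure (J.support : Set X)ᶜ).ncard ≤ 3 := by
    have h8 : ((J.support : Set X) ∩ closure (J.support : Set X)ᶜ) ⊆ {x : X | Curv2.IsNode k X x} :=
      fun x hx => isNode_of_mem k X hdim.le hX J.support hci x hx.1 hx.2
    have h9 := (Set.encard_le_encard h8).trans h3
    have h10 : ((J.support : Set X) ∩ closure (J.support : Set X)ᶜ).Finite :=
      Set.finite_of_encard_le_coe h9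
    rw [← h10.cast_ncard_eq] at h9
    exact_mod_cast h9
  rw [h6, h1, h2, h4] at hJ
  push_cast at hJ
  omega

/-- At most three nodes and genus zero: `h^0` of the inverse of the dualizing module is three. -/
theorem finrank_H0_inverse (hdim : topologicalKrullDim X = 1) (hX : Curv2.AtWorstNodal k X)
    (hg : Curv2.genus k X = 0) (h3 : {x : X | Curv2.IsNode k X x}.encard ≤ 3)
    (w : X.Modules) {t : Coh.HH X w 1 →ₗ[k] k} (ht : IsPair k t) (wd : X.Modules)
    (hwd : ClSub.IsInverseOf wd w) : Module.finrank k (Coh.HH X wd 0) = 3 := by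
  obtain ⟨hi, hw⟩ := Dix.IdealModCartier.isInvertible_of_isInverseOf hwd
  have hs := subsingleton_H1_inverse k X hdim hX hg h3 w ht wd hwd
  have hO := Groth.Agent.CurvesB.UnitCoh.isCoh_structureModule X
  have h1 := DualSetup.h0_w ht (UnitCoh.isCoh_structureModule X).1
  have h2 := DualSetup.h0_unit hw ht (Groth.Agent.Ega2.QCohLocal.isQCoh_of_isInvertible hw)
  have h4 : Module.finrank k (Coh.HH X (Coh.structureModule X) 1) = 0 := hg
  have h5 := K326.DegPts.finrank_zero k X
  have h6 := CurvesC.CurveCoh.euler_eq k X hdim (Coh.structureModule X)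
  have h7 := CurvesC.CurveCoh.euler_eq k X hdim w
  have h8 := CurvesC.CurveCoh.euler_eq k X hdim wd
  have h9 := deg_inverse k X hdim.le hwd
  have h10 : Module.finrank k (Coh.HH X wd 1) = 0 := Module.finrank_zero_of_subsingleton
  unfold Curv2.deg at h9
  rw [h5, h4] at h6
  rw [h1, ← h2, h5, h4] at h7
  rw [h10] at h8
  rw [h6, h7, h8] at h9
  push_cast at h9
  omega

end K417.NodalDeg
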