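import Groth.Agent.AlgSp.K624.StalkComp
import Groth.Agent.CurvesC.NodalLen
import Groth.Agent.CurvSt.K896.CompMeet
import Groth.Agent.S2014
import Groth.Agent.Sga5.ProjSmooth

/-!
# The number of irreducible components through a node

* `length_quot_le`, `encard_minimalPrimes_le`: local algebra;
* `encard_comps_le`: at most two components pass through a closed point of an at-worst-nodal curve;
* `isPrincipal_of_unique`: if only one component passes through `x` and that component is the image of a closed
  immersion from a scheme with principal maximal ideals, the maximal ideal of the local ring at `x` is principal;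
* `encard_comps_eq_two`: exactly two components through a node of a curve all of whose components are regular.
-/

set_option autoImplicit false
universe u
open CategoryTheory CategoryTheory.Limits AlgebraicGeometry TopologicalSpace Opposite IsLocalRing

namespace K417.NodeComps

open Groth.Agent Groth.Agent.CurvesC Groth.Agent.CurvesB

section Alg

variable {A : Type u} [CommRing A] [IsLocalRing A]

theorem length_quot_le {t ε : A} (hm : maximalIdeal A = Ideal.span {t, ε}) (hε : ε ^ 2 ∈ Ideal.span {t}) :
    Module.length A (A ⧸ Ideal.span {t}) ≤ 2 := by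
  have ht : Ideal.span {t} ≤ maximalIdeal A := by
    rw [hm]
    exact Ideal.span_mono (by simp)
  have h1 : Module.length A (A ⧸ maximalIdeal A) = 1 := by
    rw [Module.length_eq_one_iff]
    exact (isSimpleModule_iff_isCoatom.mpr (maximalIdeal.isMaximal A).out)
  have hkey : ∀ a ∈ maximalIdeal A, a * ε ∈ Ideal.span {t} := by
    intro a ha
    rw [hm, Ideal.mem_span_pair] at ha
    obtain ⟨x, y, rfl⟩ := ha
    have : (x * t + y * ε) * ε = (x * ε) * t + y * ε ^ 2 := by ring
    rw [this]
    exact (Ideal.span {t}).add_mem (Ideal.mul_mem_left _ _ (Ideal.mem_span_singleton_self t))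
      (Ideal.mul_mem_left _ _ hε)
  let f : (A ⧸ maximalIdeal A) →ₗ[A] (A ⧸ Ideal.span {t}) :=
    Submodule.liftQ (maximalIdeal A) ((Submodule.mkQ (Ideal.span {t})) ∘ₗ (LinearMap.mulRight A ε)) (by
      intro a ha
      rw [LinearMap.mem_ker, LinearMap.comp_apply, LinearMap.mulRight_apply, Submodule.mkQ_apply,
        Submodule.Quotient.mk_eq_zero]
      exact hkey a ha)
  let g : (A ⧸ Ideal.span {t}) →ₗ[A] (A ⧸ maximalIdeal A) := Submodule.factor ht
  have hg : Function.Surjective g := Submodule.factor_surjective ht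
  have h2 := Module.length_eq_add_of_exact (LinearMap.ker g).subtype g (Submodule.subtype_injective _) hg
    (LinearMap.exact_subtype_ker_map g)
  have hrange : ∀ z ∈ LinearMap.ker g, ∃ w, f w = z := by
    intro z hz
    obtain ⟨a, rfl⟩ := Submodule.mkQ_surjective _ z
    rw [LinearMap.mem_ker] at hz
    have hz' : a ∈ maximalIdeal A := by
      rw [← Submodule.Quotient.mk_eq_zero]
      exact hz
    rw [hm, Ideal.mem_span_pair] at hz'
    obtain ⟨x, y, rfl⟩ := hz'
    refine ⟨Submodule.mkQ _ y, ?_⟩
    change Submodule.mkQ _ (y * ε) = Submodule.mkQ _ (x * t + y * ε)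
    rw [map_add]
    have : Submodule.mkQ (Ideal.span {t}) (x * t) = 0 := by
      rw [Submodule.mkQ_apply, Submodule.Quotient.mk_eq_zero]
      exact Ideal.mul_mem_left _ _ (Ideal.mem_span_singleton_self t)
    rw [this, zero_add]
  have h3 : Module.length A (LinearMap.ker g) ≤ 1 := by
    rw [← h1]
    have hcod : ∀ w, f w ∈ LinearMap.ker g := by
      intro w
      obtain ⟨a, rfl⟩ := Submodule.mkQ_surjective _ w
      rw [LinearMap.mem_ker]
      change g (Submodule.mkQ _ (a * ε)) = 0
      change Submodule.mkQ (maximalIdeal A) (a * ε) = 0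
      rw [Submodule.mkQ_apply, Submodule.Quotient.mk_eq_zero, hm]
      exact Ideal.mul_mem_left _ _ (Ideal.subset_span (by simp))
    refine Module.length_le_of_surjective (g := f.codRestrict (LinearMap.ker g) hcod) ?_
    rintro ⟨z, hz⟩
    obtain ⟨w, hw⟩ := hrange z hz
    exact ⟨w, Subtype.ext hw⟩
  rw [h2, h1]
  calc Module.length A (LinearMap.ker g) + 1 ≤ 1 + 1 := by gcongr
    _ = 2 := by norm_num

theorem encard_minimalPrimes_le [IsNoetherianRing A] (hdim : ringKrullDim A = 1)
    (h : NodalLen.GoodParam A) : (minimalPrimes A).encard ≤ 2 := by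
  obtain ⟨t, ε, hm, hε, ht⟩ := h
  have hfin : (minimalPrimes A).Finite := minimalPrimes.finite_of_isNoetherianRing A
  have h1 := Groth.Agent.S2014.result A hdim t (hm ▸ Ideal.subset_span (by simp)) (by
    intro p hp htp
    have := Ideal.disjoint_nonZeroDivisors_of_mem_minimalPrimes hp
    exact (Set.disjoint_left.mp this) htp ht)
  rw [← hfin.cast_ncard_eq]
  exact h1.trans (length_quot_le hm hε)

end Alg

section Geo

variable (k : Type u) [Field k] {X : Scheme.{u}} [X.Over (Spec (CommRingCat.of k))]
  [LocallyOfFiniteType (X ↘ Spec (CommRingCat.of k))]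

/-- At most two components pass through a closed point of an at-worst-nodal curve. -/
theorem encard_comps_le (hX : Curv2.AtWorstNodal k X) (hdim : topologicalKrullDim X ≤ 1) (x : X)
    (hx : IsClosed ({x} : Set X)) :
    {Z : Set X | Z ∈ irreducibleComponents X ∧ x ∈ Z}.encard ≤ 2 := by
  have hN : IsLocallyNoetherian X :=
    NodeSch2.isLocallyNoetherian_of_locallyOfFiniteType (X ↘ (Spec (CommRingCat.of k)))
  rw [← K624.StalkComp.encard_minimalPrimes]
  have hred := NodalLen.isReduced_stalk k hX x
  by_cases hf : IsField (X.presheaf.stalk x)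
  · have h1 : minimalPrimes (X.presheaf.stalk x) ⊆ {⊥} := by
      intro p hp
      have hpp : p.IsPrime := hp.1.1
      let _ := hf.toField
      rcases Ideal.eq_bot_or_top p with h | h
      · exact h
      · exact absurd h hpp.ne_top
    exact (Set.encard_le_encard h1).trans (by rw [Set.encard_singleton]; norm_num)
  · have hg := NodalLen.goodParam_stalk k hX hdim x hx hf
    have h1 := NodeSch2.krullDimLE_one_stalk hdim x
    refine encard_minimalPrimes_le ?_ hg
    apply le_antisymm
    · exact (Ring.krullDimLE_iff (n := 1) (R := X.presheaf.stalk x)).mp h1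
    · by_contra hcon
      have h2 : ringKrullDim (X.presheaf.stalk x) ≤ 0 := by
        rw [not_le] at hcon
        have h3 : ringKrullDim (X.presheaf.stalk x) < ((0 : ℕ) : WithBot ℕ∞) + 1 := by simpa using hcon
        simpa using ENat.WithBot.lt_add_one_iff.mp h3
      have : Ring.KrullDimLE 0 (X.presheaf.stalk x) :=
        (Ring.krullDimLE_iff (n := 0) (R := X.presheaf.stalk x)).mpr (by simpa using h2)
      exact hf (Ring.KrullDimLE.isField_of_isReduced (R := X.presheaf.stalk x))

end Geo

/-- If only one component passes through `x`, the local ring of `X` at `x` is a local ring of that component. -/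
theorem isPrincipal_of_unique {X : Scheme.{u}} [IsReduced X] [NoetherianSpace X] (x : X) {Z : Set X}
    (hZ : Z ∈ irreducibleComponents (X : Type u)) (hx : x ∈ Z)
    (huniq : ∀ Z' ∈ irreducibleComponents (X : Type u), x ∈ Z' → Z' = Z) {P : Scheme.{u}} (e : P ⟶ X)
    [IsClosedImmersion e] (hr : Set.range e = Z)
    (hP : ∀ p : P, (maximalIdeal (P.presheaf.stalk p)).IsPrincipal) :
    (maximalIdeal (X.presheaf.stalk x)).IsPrincipal := by
  have hx' : x ∉ closure Zᶜ := by
    rw [K896.CompMeet.mem_closure_compl_iff hZ]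
    rintro ⟨E, hE, hne, hxE⟩
    exact hne (huniq E hE hxE)
  let U : X.Opens := ⟨(closure Zᶜ)ᶜ, isClosed_closure.isOpen_compl⟩
  have hxU : x ∈ U := hx'
  have hUZ : (U : Set X) ⊆ Z := by
    intro y hy
    by_contra hcon
    exact hy (subset_closure hcon)
  have hsurj : Surjective (e ∣_ U) := by
    refine ⟨fun y => ?_⟩
    have hy : y.1 ∈ Set.range e := by rw [hr]; exact hUZ y.2
    obtain ⟨p, hp⟩ := hy
    have hpU : p ∈ e ⁻¹ᵁ U := by
      change e p ∈ U
      rw [hp]
      exact y.2
    refine ⟨(⟨p, hpU⟩ : (e ⁻¹ᵁ U : P.Opens)), ?_⟩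
    apply Subtype.ext
    exact (morphismRestrict_base_coe e U ⟨p, hpU⟩).trans hp
  have hci : IsClosedImmersion (e ∣_ U) := inferInstance
  have hiso : IsIso (e ∣_ U) := isIso_of_isClosedImmersion_of_surjective _
  obtain ⟨p, hp⟩ : x ∈ Set.range e := by rw [hr]; exact hx
  subst hp
  have h1 : IsIso (e.stalkMap p) := by
    let q : (e ⁻¹ᵁ U : P.Opens).toScheme := (⟨p, hxU⟩ : (e ⁻¹ᵁ U : P.Opens))
    have h2 : IsIso ((e ∣_ U).stalkMap q) := inferInstance
    have h3 := morphismRestrictStalkMap e U q
    exact ((MorphismProperty.isomorphisms _).arrow_mk_iso_iff h3).mp h2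
  let φ := (asIso (e.stalkMap p)).commRingCatIsoToRingEquiv
  obtain ⟨t, ht⟩ := hP p
  refine ⟨φ.symm t, ?_⟩
  have h4 : maximalIdeal (X.presheaf.stalk (e p)) = (maximalIdeal (P.presheaf.stalk p)).map φ.symm.toRingHom := by
    symm
    apply IsLocalRing.eq_maximalIdeal
    exact Ideal.map_isMaximal_of_equiv φ.symm
  rw [h4, ht]
  change Ideal.map φ.symm.toRingHom (Ideal.span {t}) = Ideal.span {φ.symm t}
  rw [Ideal.map_span, Set.image_singleton]
  rfl

/-- The maximal ideal of a regular local ring of dimension at most one is principal. -/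
theorem isPrincipal_of_regular {A : Type u} [CommRing A] [IsRegularLocalRing A] [Ring.KrullDimLE 1 A] :
    (maximalIdeal A).IsPrincipal := by
  by_cases hf : IsField A
  · rw [isField_iff_maximalIdeal_eq.1 hf]
    exact bot_isPrincipal
  obtain ⟨t, ε, hm, hε, ht⟩ := NodalLen.goodParam_of_regular hf
  have hD : IsDomain A := Groth.Agent.S0558.result A
  have h1 : ringKrullDim A = 1 := by
    apply le_antisymm
    · exact (Ring.krullDimLE_iff (n := 1) (R := A)).mp inferInstance
    · by_contra hcon
      apply hf
      have h2 : ringKrullDim A ≤ 0 := by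
        rw [not_le] at hcon
        have h3 : ringKrullDim A < ((0 : ℕ) : WithBot ℕ∞) + 1 := by simpa using hcon
        simpa using ENat.WithBot.lt_add_one_iff.mp h3
      have : Ring.KrullDimLE 0 A := (Ring.krullDimLE_iff (n := 0) (R := A)).mpr (by simpa using h2)
      exact Ring.KrullDimLE.isField_of_isReduced (R := A)
  obtain ⟨_, _⟩ := (Groth.Agent.S0549.dvr_iff A).mpr ⟨inferInstance, h1⟩
  exact IsPrincipalIdealRing.principal _

/-- Local rings of a smooth curve have principal maximal ideals. -/
theorem isPrincipal_of_smooth (k : Type u) [Field k] {P : Scheme.{u}} [P.Over (Spec (CommRingCat.of k))]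
    [Smooth (P ↘ Spec (CommRingCat.of k))] (hdim : topologicalKrullDim P ≤ 1) (p : P) :
    (maximalIdeal (P.presheaf.stalk p)).IsPrincipal := by
  have h1 := NodeSch2.krullDimLE_one_stalk hdim p
  have h2 : IsRegularLocalRing (P.presheaf.stalk p) :=
    NodeSch2.isRegularLocalRing_of_exists k p ⟨⊤, trivial, inferInstance⟩
  exact isPrincipal_of_regular

/-- Local rings of the projective line have principal maximal ideals. -/
theorem isPrincipal_P1 (k : Type u) [Field k] {X : Scheme.{u}} (hdim : topologicalKrullDim X ≤ 1)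
    (e : CohB1.ProjSpace 1 k ⟶ X) [IsClosedImmersion e] (p : CohB1.ProjSpace 1 k) :
    (maximalIdeal ((CohB1.ProjSpace 1 k).presheaf.stalk p)).IsPrincipal := by
  let _ : (CohB1.ProjSpace 1 k).Over (Spec (CommRingCat.of k)) := ⟨CohB1.ProjSpace.toSpec 1 k⟩
  have h1 : Smooth (CohB1.ProjSpace 1 k ↘ Spec (CommRingCat.of k)) := by
    change Smooth (CohB1.ProjSpace.toSpec 1 k)
    exact SmoothOfRelativeDimension.smooth 1 _
  exact isPrincipal_of_smooth k (e.isClosedEmbedding.isInducing.topologicalKrullDim_le.trans hdim) p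

section Node

variable (k : Type u) [Field k] {X : Scheme.{u}} [X.Over (Spec (CommRingCat.of k))]
  [LocallyOfFiniteType (X ↘ Spec (CommRingCat.of k))]

/-- Exactly two components pass through a node of a curve all of whose components are projective lines. -/
theorem encard_comps_node [IsReduced X] [NoetherianSpace X] (hX : Curv2.AtWorstNodal k X)
    (hdim : topologicalKrullDim X ≤ 1)
    (hP1 : ∀ E ∈ irreducibleComponents (X : Type u), CurvSt.IsSmRatComp k X (X ↘ Spec (CommRingCat.of k)) E)
    (x : X) (hx : Curv2.IsNode k X x) :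
    {Z : Set X | Z ∈ irreducibleComponents X ∧ x ∈ Z}.encard = 2 := by
  have h1 := encard_comps_le k hX hdim x hx.1
  have hx1 : x ∈ ⋃₀ irreducibleComponents (X : Type u) := by
    rw [sUnion_irreducibleComponents]; trivial
  obtain ⟨Z, hZ, hxZ⟩ := hx1
  by_contra hcon
  have h2 : {Z : Set X | Z ∈ irreducibleComponents X ∧ x ∈ Z}.encard < 2 := lt_of_le_of_ne h1 hcon
  have h3 : {Z : Set X | Z ∈ irreducibleComponents X ∧ x ∈ Z}.encard ≤ 1 := by
    have : (2 : ℕ∞) = 1 + 1 := by norm_num
    rw [this] at h2
    exact ENat.lt_add_one_iff (by simp) |>.mp h2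
  rw [Set.encard_le_one_iff] at h3
  have huniq : ∀ Z' ∈ irreducibleComponents (X : Type u), x ∈ Z' → Z' = Z := fun Z' hZ' hxZ' =>
    h3 Z' Z ⟨hZ', hxZ'⟩ ⟨hZ, hxZ⟩
  obtain ⟨-, e, he, -, hr⟩ := hP1 Z hZ
  have h4 := isPrincipal_of_unique x hZ hxZ huniq e hr (isPrincipal_P1 k hdim e)
  have h5 := ((Groth.Agent.CurvesB.Node.isNode_iff k X x).1 hx).2.not_principal 1 le_rfl
  rw [pow_one] at h5
  exact h5 h4

end Node

end K417.NodeComps
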