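import Groth.Agent.Curves.K417.NodalDeg
import Groth.Agent.Curves.K417.NodeComps
import Groth.Agent.CurvSt.K896.TailBridge
import Groth.Agent.CurvesC.DualNodal
import Groth.Agent.S1641
import Mathlib.Combinatorics.Enumerative.DoubleCounting

/-!
# Components and nodes of a connected nodal curve whose components are projective lines

`genus_add`: for a connected at-worst-nodal curve over an algebraically closed field all of whose components are
projective lines, `g + #components = #nodes + 1`.
-/

set_option autoImplicit false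
universe u
open CategoryTheory CategoryTheory.Limits AlgebraicGeometry TopologicalSpace Opposite

namespace K417.TreeCount

open Groth.Agent Groth.Agent.CurvesC Groth.Agent.CurvesC.TailGeom Groth.Agent.CurvesC.TailNum
open Groth.Agent.CurvesC.DegIso Groth.Agent.CurvesC.DualCount Groth.Agent.CurvesB Groth.Agent.CurvesB.SubH1

attribute [local instance] subOver

variable (k : Type u) [Field k] (X : Scheme.{u}) [X.Over (Spec (CommRingCat.of k))]
  [IsProper (X ↘ (Spec (CommRingCat.of k)))] [IsReduced X]

/-- The stalk of a reduced scheme at the generic point of a component has length one. -/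
theorem length_generic [NoetherianSpace X] (Z : irreducibleComponents (X : Type u)) :
    Module.length (X.presheaf.stalk Z.2.1.genericPoint) (X.presheaf.stalk Z.2.1.genericPoint) = 1 := by
  have h1 : closure {Z.2.1.genericPoint} = Z.1 := by
    rw [Z.2.1.genericPoint_closure_eq]
    exact (isClosed_of_mem_irreducibleComponents Z.1 Z.2).closure_eq
  have h2 : IsField (X.presheaf.stalk Z.2.1.genericPoint) := by
    apply Groth.Agent.CurvesB.GenStalk.isField_stalk
    intro y hy
    exact K624.StalkComp.eq_of_specializes_of_mem_irreducibleComponents (by rw [h1]; exact Z.2) hy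
  rw [Module.length_eq_one_iff, isSimpleModule_iff]
  exact Ring.isField_iff_isSimpleOrder_ideal.mp h2

variable [ConnectedSpace X] [IsAlgClosed k]

/-- The degree of the dualizing module. -/
theorem deg_w_total (hdim : topologicalKrullDim X = 1) (w : X.Modules) (hw : PicF.IsInvertible w)
    {t : Coh.HH X w 1 →ₗ[k] k} (ht : IsPair k t) :
    Curv2.deg k X w 1 = 2 * (Curv2.genus k X : ℤ) - 2 := by
  have hO := Groth.Agent.CurvesB.UnitCoh.isCoh_structureModule X
  have h1 := DualSetup.h0_w ht (UnitCoh.isCoh_structureModule X).1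
  have h2 := DualSetup.h0_unit hw ht (Groth.Agent.Ega2.QCohLocal.isQCoh_of_isInvertible hw)
  have h5 := K326.DegPts.finrank_zero k X
  have h6 := CurvesC.CurveCoh.euler_eq k X hdim (Coh.structureModule X)
  have h7 := CurvesC.CurveCoh.euler_eq k X hdim w
  have h8 : Module.finrank k (Coh.HH X (Coh.structureModule X) 1) = Curv2.genus k X := rfl
  unfold Curv2.deg
  rw [h6, h7, h1, ← h2, h5, h8]
  push_cast
  ring

/-- The degree of the dualizing module as a sum over the components. -/
theorem sum_meet (hdim : topologicalKrullDim X = 1) (hX : Curv2.AtWorstNodal k X)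
    (hP1 : ∀ E ∈ irreducibleComponents (X : Type u), CurvSt.IsSmRatComp k X (X ↘ Spec (CommRingCat.of k)) E)
    (w : X.Modules) (hw : PicF.IsInvertible w) {t : Coh.HH X w 1 →ₗ[k] k} (ht : IsPair k t)
    [Fintype (irreducibleComponents (X : Type u))] :
    2 * (Curv2.genus k X : ℤ) - 2 =
      ∑ Z : irreducibleComponents (X : Type u), (((Z.1 ∩ closure Z.1ᶜ).ncard : ℤ) - 2) := by
  have hN : IsNoetherian X := Groth.Agent.VarietyB.DegFin.isNoetherian_of_isProper k X
  have key := Groth.Agent.S1641.result k X hdim.le 1 w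
    (Groth.Agent.Ega2.QCohLocal.isFinLocFreeOfRank_one_iff.mpr hw)
  rw [← deg_w_total k X hdim w hw ht, key, finsum_eq_sum_of_fintype]
  refine Finset.sum_congr rfl fun Z _ => ?_
  have hdimZ : topologicalKrullDim (Z.1 : Set X) = 1 := TailMain.pure_of_connected X hdim Z.1 Z.2
  have hI : Set.range (X.irreducibleComponentIdeal Z.1 Z.2).radical.subschemeι = Z.1 :=
    Scheme.IdealSheafData.range_subschemeι _
  set J := (X.irreducibleComponentIdeal Z.1 Z.2).radical with hJ
  have hred : IsReduced J.subscheme := Groth.Agent.Ega1.ReducedSub.isReduced_subscheme_radical _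
  have hirr : IrreducibleSpace J.subscheme :=
    CompGeom.irreducibleSpace_of_embedding _ J.subschemeι.isEmbedding (by rw [hI]; exact Z.2.1)
  have hdimJ : topologicalKrullDim J.subscheme = 1 := by
    rw [← Groth.Agent.VarietyB.DegComp.topologicalKrullDim_range_eq J.subschemeι, hI]
    exact hdimZ
  have hsupp : (J.support : Set X) = Z.1 := by
    rw [← Scheme.IdealSheafData.range_subschemeι, hI]
  rw [if_pos hdimZ, length_generic]
  have h1 := NodalDeg.deg_w k X hdim hX w hw ht J hdimJ
  have h2 : Curv2.genus k J.subscheme = 0 := by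
    obtain ⟨hC, e, he, -, hr⟩ := hP1 Z.1 Z.2
    obtain ⟨e', -⟩ := Groth.Agent.Ega1.ReducedSub.exists_iso_of_range_eq e J.subschemeι (by rw [hI]; exact hr)
    have h3 := K896.TailBridge.subsingleton_of_iso_P1 e'
    exact Module.finrank_zero_of_subsingleton
  rw [hsupp, h2] at h1
  have h3 : @Curv2.deg k _ J.subscheme ⟨J.subschemeι ≫ (X ↘ (Spec (CommRingCat.of k)))⟩
    ((Scheme.Modules.pullback J.subschemeι).obj w) 1 = ((Z.1 ∩ closure Z.1ᶜ).ncard : ℤ) - 2 := by
    refine h1.trans ?_
    push_cast
    ring
  rw [h3]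
  simp

/-- Double counting: `∑ #(Z ∩ Zᶜ) = 2 #nodes`. -/
theorem sum_ncard (hdim : topologicalKrullDim X = 1) (hX : Curv2.AtWorstNodal k X)
    (hP1 : ∀ E ∈ irreducibleComponents (X : Type u), CurvSt.IsSmRatComp k X (X ↘ Spec (CommRingCat.of k)) E)
    [Fintype (irreducibleComponents (X : Type u))] :
    {x : X | Curv2.IsNode k X x}.Finite ∧
    ∑ Z : irreducibleComponents (X : Type u), (Z.1 ∩ closure Z.1ᶜ).ncard = 2 * {x : X | Curv2.IsNode k X x}.ncard := by
  classical
  have hN : IsNoetherian X := Groth.Agent.VarietyB.DegFin.isNoetherian_of_isProper k X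
  have htwo := fun x hx => NodeComps.encard_comps_node k hX hdim.le hP1 x hx
  have hset : ∀ Z : irreducibleComponents (X : Type u), Z.1 ∩ closure Z.1ᶜ = {x : X | Curv2.IsNode k X x ∧ x ∈ Z.1} := by
    intro Z
    ext x
    constructor
    · rintro ⟨h1, h2⟩
      refine ⟨?_, h1⟩
      let Y : Closeds X := ⟨Z.1, isClosed_of_mem_irreducibleComponents Z.1 Z.2⟩
      have hY : (Y : Set X) ⊆ closure (interior Y) := by
        have h := DualIdeals.subset_closure_interior (X := X) {Z.1} (by simpa using Z.2)
        rwa [Set.sUnion_singleton] at h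
      exact NodalDeg.isNode_of_mem k X hdim.le hX Y hY x h1 h2
    · rintro ⟨h1, h2⟩
      refine ⟨h2, ?_⟩
      rw [K896.CompMeet.mem_closure_compl_iff Z.2]
      by_contra hcon
      push Not at hcon
      have h3 : {Z : Set X | Z ∈ irreducibleComponents X ∧ x ∈ Z} ⊆ {Z.1} := by
        rintro W ⟨hW, hxW⟩
        by_contra hne
        exact hcon W hW hne hxW
      have h4 := Set.encard_le_encard h3
      rw [htwo x h1, Set.encard_singleton] at h4
      exact absurd h4 (by norm_num)
  have hfinZ : ∀ Z : irreducibleComponents (X : Type u), (Z.1 ∩ closure Z.1ᶜ).Finite := fun Z =>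
    (TailGeom.finite_inter hdim.le Z.2).1
  have hfin : {x : X | Curv2.IsNode k X x}.Finite := by
    refine (Set.finite_iUnion hfinZ).subset fun x hx => ?_
    have hx1 : x ∈ ⋃₀ irreducibleComponents (X : Type u) := by
      rw [sUnion_irreducibleComponents]; trivial
    obtain ⟨Z, hZ, hxZ⟩ := hx1
    refine Set.mem_iUnion.mpr ⟨⟨Z, hZ⟩, ?_⟩
    rw [hset]
    exact ⟨hx, hxZ⟩
  refine ⟨hfin, ?_⟩
  let s : Finset (irreducibleComponents (X : Type u)) := Finset.univ
  let t : Finset X := hfin.toFinset
  let r : irreducibleComponents (X : Type u) → X → Prop := fun Z x => x ∈ Z.1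
  have hd := Finset.sum_card_bipartiteAbove_eq_sum_card_bipartiteBelow (s := s) (t := t) r
  have h1 : ∀ Z ∈ s, (t.bipartiteAbove r Z).card = (Z.1 ∩ closure Z.1ᶜ).ncard := by
    intro Z _
    rw [hset, ← Set.ncard_coe_finset]
    congr 1
    ext x
    simp [t, r, Finset.bipartiteAbove]
  have h2 : ∀ x ∈ t, (s.bipartiteBelow r x).card = 2 := by
    intro x hx
    have hx' : Curv2.IsNode k X x := by simpa [t] using hx
    have h3 := htwo x hx'
    have h4 : {Z : Set X | Z ∈ irreducibleComponents X ∧ x ∈ Z} =
      Subtype.val '' ((s.bipartiteBelow r x : Finset _) : Set (irreducibleComponents (X : Type u))) := by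
      ext W
      simp [s, r, Finset.bipartiteBelow, and_comm]
    rw [h4, Subtype.val_injective.encard_image, Set.encard_coe_eq_coe_finsetCard] at h3
    exact_mod_cast h3
  rw [Finset.sum_congr rfl h1, Finset.sum_congr rfl h2, Finset.sum_const, smul_eq_mul] at hd
  rw [hd, Set.ncard_eq_toFinset_card _ hfin, mul_comm]



/-- `g + #components = #nodes + 1`. -/
theorem genus_add (hdim : topologicalKrullDim X = 1) (hX : Curv2.AtWorstNodal k X)
    (hP1 : ∀ E ∈ irreducibleComponents (X : Type u), CurvSt.IsSmRatComp k X (X ↘ Spec (CommRingCat.of k)) E)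
    (w : X.Modules) (hw : PicF.IsInvertible w) {t : Coh.HH X w 1 →ₗ[k] k} (ht : IsPair k t) :
    {x : X | Curv2.IsNode k X x}.Finite ∧
    Curv2.genus k X + (irreducibleComponents (X : Type u)).ncard = {x : X | Curv2.IsNode k X x}.ncard + 1 := by
  have hN : IsNoetherian X := Groth.Agent.VarietyB.DegFin.isNoetherian_of_isProper k X
  have hfin := NoetherianSpace.finite_irreducibleComponents (α := (X : Type u))
  have : Finite (irreducibleComponents (X : Type u)) := hfin
  let _ := Fintype.ofFinite (irreducibleComponents (X : Type u))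
  have h1 := sum_meet k X hdim hX hP1 w hw ht
  obtain ⟨h2, h3⟩ := sum_ncard k X hdim hX hP1
  refine ⟨h2, ?_⟩
  rw [Finset.sum_sub_distrib, ← Nat.cast_sum, h3, Finset.sum_const, Finset.card_univ] at h1
  have h4 : Fintype.card (irreducibleComponents (X : Type u)) = (irreducibleComponents (X : Type u)).ncard := by
    rw [← Nat.card_eq_fintype_card]
    rfl
  rw [h4] at h1
  simp only [nsmul_eq_mul] at h1
  push_cast at h1
  omega

end K417.TreeCount
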