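import Groth.Agent.Curves.K327.NefMain
import Groth.Agent.Curves.K331.GGCrit
import Groth.Agent.PerfC.ClosedPush
import Groth.Agent.PerfC.PullRestrict
import Groth.Agent.PerfA.CohSerre
import Groth.Agent.Sga67.SerreVB
import Groth.Agent.S1527
import Groth.Agent.Dcoh.TensRestr
import Groth.Agent.PerfB.FlatPull

/-!
# Vector bundles on curves with `H^1(O) = 0`: global generation from the integral closed subschemes

Algebraically closed base field `k`, `X` proper over `k` of dimension `≤ 1` with `H^1(X, O) = 0`, `E` finite locally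
free on `X`. If `E|_J` is globally generated for every integral closed subscheme `J` of dimension one, then `E` is
globally generated and `H^1(X, E) = 0` (`main`).
-/

set_option autoImplicit false
universe u
open CategoryTheory CategoryTheory.Limits AlgebraicGeometry TopologicalSpace Opposite

namespace K417.VBStep

open Groth.Agent Groth.Agent.CohqB.HSeqMod Groth.Agent.CurvesB.SubH1 Groth.Agent.CurvesB
open Groth.Agent.CurvesB.SubPoint Groth.Agent.CycB.StalkExact Groth.Agent.Curves.K327
open Groth.Agent.Curves.K327.NefStep Groth.Agent.Curves.K327.NefInd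

variable {W : Scheme.{u}}

/-- **The tensor step.** -/
theorem subsingleton_H1_tensor_killed {k : Type u} [Field k] [W.Over (Spec (CommRingCat.of k))]
    [IsNoetherian W] (hdim : topologicalKrullDim W ≤ 1) {E G : W.Modules} (hE : FlatMod.IsFinLocFree E)
    (hG : Coh.IsCoh G) (J : W.IdealSheafData) (hk : ClSub.KilledByIdeal J G)
    (hgg : Curv2.IsGloballyGenerated ((Scheme.Modules.pullback J.subschemeι).obj E))
    (h1 : Subsingleton (Coh.HH W G 1)) : Subsingleton (Coh.HH W (CohB1.tensorMod E G) 1) := by
  let j := J.subschemeι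
  let : J.subscheme.Over (Spec (CommRingCat.of k)) := ⟨j ≫ (W ↘ (Spec (CommRingCat.of k)))⟩
  have hf : j ≫ (W ↘ (Spec (CommRingCat.of k))) = J.subscheme ↘ (Spec (CommRingCat.of k)) := rfl
  have hN : IsNoetherian J.subscheme := isNoetherian_of_closedImmersion j
  have hd : topologicalKrullDim J.subscheme ≤ 1 :=
    (j.isClosedEmbedding.isInducing.topologicalKrullDim_le).trans hdim
  have hk' : ClSub.KilledByIdeal j.ker G := by
    rw [show j.ker = J from J.ker_subschemeι]
    exact hk
  have hGq : Coh.IsQCoh ((Scheme.Modules.pullback j).obj G) := FormalA.PullbackQC.isQCoh_pullback j G hG.1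
  have hEc : Coh.IsCoh ((Scheme.Modules.pullback j).obj E) :=
    FormalA.PullbackQC.isCoh_pullback j _ (PerfA.CohSerre.isCoh_of_isFinLocFree hE)
  have hE' : VarietyB.TensCoh.HasBases E := VarietyB.TensCoh.HasBases.of_isFinLocFree hE
  have hE'' : VarietyB.TensCoh.HasBases ((Scheme.Modules.pullback j).obj E) := VarietyB.ProjForm.HasBases.pullback j hE'
  -- `H^1` of the pullback
  have h2 : Subsingleton (Coh.HH J.subscheme ((Scheme.Modules.pullback j).obj G) 1) := by
    obtain ⟨e⟩ := VarietyB.HHPush.exists_linearEquiv j k hf _ hGq 1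
    have h3 : Subsingleton (Coh.HH W ((Scheme.Modules.pushforward j).obj ((Scheme.Modules.pullback j).obj G)) 1) :=
      (Fga.EulerIso.HHequiv k (FormalA.ClosedImm.pushPullIso j hk') 1).toEquiv.subsingleton
    exact e.symm.toEquiv.subsingleton
  have h4 := GGTensor.subsingleton_H1_tensor hd hEc hgg h2
  have h5 : Subsingleton (Coh.HH W ((Scheme.Modules.pushforward j).obj (CohB1.tensorMod ((Scheme.Modules.pullback j).obj E)
      ((Scheme.Modules.pullback j).obj G))) 1) := by
    obtain ⟨e⟩ := VarietyB.HHPush.exists_linearEquiv j k hf _ (VarietyB.TensCoh.isQCoh_tensorMod hE'' hGq) 1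
    exact e.toEquiv.subsingleton
  let e1 : CohB1.tensorMod E G ≅ (Scheme.Modules.pushforward j).obj (CohB1.tensorMod ((Scheme.Modules.pullback j).obj E)
      ((Scheme.Modules.pullback j).obj G)) :=
    (DCoh.tensorBi.obj E).mapIso (FormalA.ClosedImm.pushPullIso j hk').symm ≪≫
      VarietyB.ProjForm.projIso j hE' ((Scheme.Modules.pullback j).obj G)
  exact (Fga.EulerIso.HHequiv k e1 1).toEquiv.subsingleton

/-- The push-forward of a globally generated coherent module along a closed subscheme is globally generated. -/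
theorem isGloballyGenerated_push (J : W.IdealSheafData) [CompactSpace J.subscheme] {G : J.subscheme.Modules}
    (hG : Coh.IsCoh G) (hgg : Curv2.IsGloballyGenerated G) :
    Curv2.IsGloballyGenerated ((Scheme.Modules.pushforward J.subschemeι).obj G) := by
  obtain ⟨n, p, hp⟩ := Sga67.SerreVB.exists_epi_freeMod hG hgg
  have hB : VarietyB.TensCoh.HasBases (FlatMod.freeMod W n) :=
    VarietyB.TensCoh.HasBases.of_isFinLocFree (Dcoh.FinLocFree.isFinLocFree_freeMod W n)
  have he : Epi (VarietyB.RestrSeq.toRestr hB J) := (VarietyB.RestrSeq.restrSeq_shortExact hB J).epi_g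
  have hp' : Epi ((PerfC.PullRestrict.pullbackFreeMod J.subschemeι n).hom ≫ p) := epi_comp _ _
  have hp'' : Epi ((Scheme.Modules.pushforward J.subschemeι).map
      ((PerfC.PullRestrict.pullbackFreeMod J.subschemeι n).hom ≫ p)) :=
    (PerfC.ClosedPush.preservesEpi J.subschemeι).preserves _
  have : Epi (VarietyB.RestrSeq.toRestr hB J ≫ (Scheme.Modules.pushforward J.subschemeι).map
      ((PerfC.PullRestrict.pullbackFreeMod J.subschemeι n).hom ≫ p)) := epi_comp _ _
  exact Sga67.SerreVB.isGloballyGenerated_of_epi_freeMod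
    (VarietyB.RestrSeq.toRestr hB J ≫ (Scheme.Modules.pushforward J.subschemeι).map
      ((PerfC.PullRestrict.pullbackFreeMod J.subschemeι n).hom ≫ p))

/-- Lifting generation of stalks along a map surjective on global sections whose kernel lies in the maximal
ideal. -/
theorem span_eq_top {F D : W.Modules} [IsLocallyNoetherian W] (hF : Coh.IsCoh F) (q : F ⟶ D)
    (hs : Function.Surjective (q.app ⊤)) (hD : Curv2.IsGloballyGenerated D) (w : W)
    (hker : ∀ m, stalkLin q w m = 0 → m ∈ (IsLocalRing.maximalIdeal (W.presheaf.stalk w) • ⊤ :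
      Submodule (W.presheaf.stalk w) (F.presheaf.stalk w))) :
    Submodule.span (W.presheaf.stalk w) (Set.range fun s : Γ(F, ⊤) => F.presheaf.germ ⊤ w trivial s) = ⊤ := by
  set N := Submodule.span (W.presheaf.stalk w) (Set.range fun s : Γ(F, ⊤) => F.presheaf.germ ⊤ w trivial s) with hN
  have h1 := (VarietyB.GGStalk.isGloballyGenerated_iff_span D).mp hD w
  have h2 : Submodule.map (stalkLin q w) N = ⊤ := by
    rw [hN, Submodule.map_span, eq_top_iff, ← h1]
    refine Submodule.span_mono ?_
    rintro _ ⟨s, rfl⟩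
    obtain ⟨t, rfl⟩ := hs s
    refine ⟨_, ⟨t, rfl⟩, ?_⟩
    exact stalkLin_germ q w (U := ⊤) trivial t
  have hfin : Module.Finite (W.presheaf.stalk w) (F.presheaf.stalk w) := CycB.CohStalk.finite_stalk F hF w
  have h3 : (⊤ : Submodule (W.presheaf.stalk w) (F.presheaf.stalk w)) ≤
      N ⊔ IsLocalRing.maximalIdeal (W.presheaf.stalk w) • ⊤ := by
    intro m _
    have h4 : stalkLin q w m ∈ Submodule.map (stalkLin q w) N := by rw [h2]; trivial
    obtain ⟨n, hn, hnm⟩ := h4
    have h5 := hker (m - n) (by rw [map_sub, hnm, sub_self])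
    have h6 : m = n + (m - n) := by abel
    rw [h6]
    exact Submodule.add_mem_sup hn h5
  rw [eq_top_iff]
  exact Submodule.le_of_le_smul_of_le_jacobson_bot hfin.1 (IsLocalRing.maximalIdeal_le_jacobson _) h3

/-- The kernel of `E_w → (i_* i^* E)_w` at a point of the subscheme. -/
theorem mem_of_toRestr_eq_zero {E : W.Modules} (hE : VarietyB.TensCoh.HasBases E) (J : W.IdealSheafData) (w : W)
    (hw : w ∈ J.support) (m : E.presheaf.stalk w)
    (hm : stalkLin (VarietyB.RestrSeq.toRestr hE J) w m = 0) :
    m ∈ (IsLocalRing.maximalIdeal (W.presheaf.stalk w) • ⊤ :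
      Submodule (W.presheaf.stalk w) (E.presheaf.stalk w)) := by
  obtain ⟨z, rfl⟩ := (stalkLin_exact (VarietyB.RestrSeq.restrSeq hE J)
    (VarietyB.RestrSeq.restrSeq_shortExact hE J).exact w m).mp hm
  have h1 : (VarietyB.RestrSeq.restrSeq hE J).f = K331.GGCrit.mu E J := by
    change (DCoh.tensorBi.obj E).map (ClSub.idealModι J) ≫ (Ega2.Tens.runit E).hom = _
    rw [Dcoh.TensRestr.tensorBi_obj_map_eq]
    rfl
  rw [h1]
  exact K331.GGCrit.stalkLin_mu_mem E J w hw z

/-- **The induction step.** -/
theorem step {k : Type u} [Field k] [W.Over (Spec (CommRingCat.of k))] [IsAlgClosed k]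
    [IsProper (W ↘ (Spec (CommRingCat.of k)))] (hdim : topologicalKrullDim W ≤ 1)
    (h1 : Subsingleton (Coh.HH W (Coh.structureModule W) 1)) {L : W.Modules} (hL : FlatMod.IsFinLocFree L)
    (IH : ∀ J : W.IdealSheafData, J ≠ ⊥ → Curv2.IsGloballyGenerated ((Scheme.Modules.pullback J.subschemeι).obj L))
    (hbase : ∀ J : W.IdealSheafData, IsIntegral J.subscheme →
      Curv2.IsGloballyGenerated ((Scheme.Modules.pullback J.subschemeι).obj L)) :
    Curv2.IsGloballyGenerated L := by
  have hN := CurvesC.CurveCoh.noetherianSpace k W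
  have hNW : IsNoetherian W := CurvesC.CurveCoh.noetherianSpace k W
  have hB : VarietyB.TensCoh.HasBases L := VarietyB.TensCoh.HasBases.of_isFinLocFree hL
  have hLc : Coh.IsCoh L := PerfA.CohSerre.isCoh_of_isFinLocFree hL
  -- the basic vanishing
  have key : ∀ ξ : W, IsGen ξ → Subsingleton (Coh.HH W (CohB1.tensorMod L (ClSub.idealMod (cl W ξ))) 1) := by
    intro ξ hξ
    have h2 : Subsingleton (Coh.HH W (ClSub.idealMod (cl W ξ)) 1) :=
      subsingleton_H1_left (VarietyB.RestrSeq.idealSeq_shortExact (cl W ξ))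
        (app_top_surjective (W ↘ (Spec (CommRingCat.of k))) (cl W ξ)) h1
    exact subsingleton_H1_tensor_killed (k := k) hdim hL (VarietyB.DegCartier.isCoh_idealMod _)
      (AnnComp.ann (cl W ξ)) (AnnComp.killed _) (IH _ (AnnComp.ann_ne_bot hξ)) h2
  rw [VarietyB.GGStalk.isGloballyGenerated_iff_span]
  intro w
  obtain ⟨ξ, hξ, hξw⟩ := CurvesB.SubClosed.exists_isGen_specializes w
  have hs := app_surjective_of_H1 (VarietyB.RestrSeq.restrSeq_shortExact hB (cl W ξ)) (key ξ hξ)
  have hNc : IsNoetherian (cl W ξ).subscheme := isNoetherian_of_closedImmersion (cl W ξ).subschemeι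
  refine span_eq_top hLc (VarietyB.RestrSeq.toRestr hB (cl W ξ)) hs
    (isGloballyGenerated_push _ (FormalA.PullbackQC.isCoh_pullback _ _ hLc) (hbase (cl W ξ) inferInstance)) w
    fun m hm => mem_of_toRestr_eq_zero hB _ w ?_ m hm
  have h3 : w ∈ ((cl W ξ).support : Set W) := by
    rw [← Scheme.IdealSheafData.range_subschemeι, range_cl]
    exact specializes_iff_mem_closure.mp hξw
  exact h3

/-- Global generation on an integral scheme of dimension `0` proper over a field. -/
theorem gg_of_dim_zero [IsIntegral W] {k : Type u} [Field k] [W.Over (Spec (CommRingCat.of k))]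
    [IsProper (W ↘ (Spec (CommRingCat.of k)))] (hdim : topologicalKrullDim W ≤ 0) {E : W.Modules}
    (hE : Coh.IsCoh E) : Curv2.IsGloballyGenerated E := by
  refine Groth.Agent.S1527.result k W E hE ?_
  refine (Topology.IsInducing.topologicalKrullDim_le (f := Subtype.val) ?_).trans hdim
  exact Topology.IsEmbedding.subtypeVal.isInducing

/-- **Vector bundles over an algebraically closed field**, all closed subschemes at once. -/
theorem main_aux {k : Type u} [Field k] [IsAlgClosed k] {X : Scheme.{u}} [X.Over (Spec (CommRingCat.of k))]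
    [IsProper (X ↘ (Spec (CommRingCat.of k)))] (hdim : topologicalKrullDim X ≤ 1)
    (h1 : Subsingleton (Coh.HH X (Coh.structureModule X) 1)) {L : X.Modules} (hL : FlatMod.IsFinLocFree L)
    (hcomp : ∀ J : X.IdealSheafData, IsIntegral J.subscheme → topologicalKrullDim J.subscheme = 1 →
      Curv2.IsGloballyGenerated ((Scheme.Modules.pullback J.subschemeι).obj L)) (I : X.IdealSheafData) :
    ∀ (W : Scheme.{u}) (g : W ⟶ X) [IsClosedImmersion g], g.ker = I →
      Curv2.IsGloballyGenerated ((Scheme.Modules.pullback g).obj L) := by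
  have hN := CurvesC.CurveCoh.noetherianSpace k X
  have hLc : Coh.IsCoh L := PerfA.CohSerre.isCoh_of_isFinLocFree hL
  have hwf := Divis.ColonIdeal.wellFoundedGT (X := X)
  refine WellFoundedGT.induction (motive := fun I => ∀ (W : Scheme.{u}) (g : W ⟶ X) [IsClosedImmersion g], g.ker = I →
        Curv2.IsGloballyGenerated ((Scheme.Modules.pullback g).obj L)) I ?_
  intro I IH W g _ hker
  let : W.Over (Spec (CommRingCat.of k)) := ⟨g ≫ (X ↘ (Spec (CommRingCat.of k)))⟩
  have hg : g ≫ (X ↘ (Spec (CommRingCat.of k))) = W ↘ (Spec (CommRingCat.of k)) := rfl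
  have hp : IsProper (W ↘ (Spec (CommRingCat.of k))) := inferInstanceAs (IsProper (g ≫ _))
  have hNW := CurvesC.CurveCoh.noetherianSpace k W
  have hdW : topologicalKrullDim W ≤ 1 :=
    (g.isClosedEmbedding.isInducing.topologicalKrullDim_le).trans hdim
  have hLW := PerfB.FlatPull.isFinLocFree_pullback g hL
  refine step (k := k) hdW (NefMain.subsingleton_H1_structure hdim g hg h1) hLW ?_ ?_
  · intro J hJ
    have h2 := IH (J.subschemeι ≫ g).ker (hker ▸ ker_lt g J hJ) J.subscheme (J.subschemeι ≫ g) rfl
    exact Ega2.GlobGenCrit.isGloballyGenerated_of_iso ((Scheme.Modules.pullbackComp J.subschemeι g).app L).symm h2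
  · intro J hJ
    let : J.subscheme.Over (Spec (CommRingCat.of k)) := ⟨(J.subschemeι ≫ g) ≫ (X ↘ (Spec (CommRingCat.of k)))⟩
    have hpJ : IsProper (J.subscheme ↘ (Spec (CommRingCat.of k))) := inferInstanceAs (IsProper ((J.subschemeι ≫ g) ≫ _))
    have hdJ : topologicalKrullDim J.subscheme ≤ 1 :=
      ((J.subschemeι ≫ g).isClosedEmbedding.isInducing.topologicalKrullDim_le).trans hdim
    by_cases hd : topologicalKrullDim J.subscheme = 1
    · let K := (J.subschemeι ≫ g).ker
      let e := SubEuler.toKer (J.subschemeι ≫ g)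
      have hKi : IsIntegral K.subscheme := by
        have : Nonempty (J.subschemeι ≫ g).ker.subscheme :=
            ⟨SubEuler.toKer (J.subschemeι ≫ g) (Classical.arbitrary J.subscheme)⟩
        exact isIntegral_of_isOpenImmersion (inv (SubEuler.toKer (J.subschemeι ≫ g)))
      have h3 := hcomp K hKi (by rw [SubEuler.topologicalKrullDim_ker, hd])
      have h4 := VarietyB.GGStalk.isGloballyGenerated_pullback e _ h3
      have he : e ≫ K.subschemeι = J.subschemeι ≫ g := SubEuler.toKer_subschemeι _
      refine Ega2.GlobGenCrit.isGloballyGenerated_of_iso ?_ h4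
      exact (Scheme.Modules.pullbackComp e K.subschemeι).app L ≪≫
        (Scheme.Modules.pullbackCongr he).app L ≪≫ ((Scheme.Modules.pullbackComp J.subschemeι g).app L).symm
    · have hd0 : topologicalKrullDim J.subscheme ≤ 0 := by
        by_contra hcon
        apply hd
        refine le_antisymm hdJ ?_
        have h5 := not_le.mp hcon
        have h6 : (((0 : ℕ) : WithBot ℕ∞)) + 1 ≤ topologicalKrullDim J.subscheme :=
          ENat.WithBot.add_one_le_iff.mpr (by simpa using h5)
        simpa using h6
      exact gg_of_dim_zero (k := k) hd0 (FormalA.PullbackQC.isCoh_pullback _ _ (FormalA.PullbackQC.isCoh_pullback _ _ hLc))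

/-- **Vector bundles over an algebraically closed field.** -/
theorem main {k : Type u} [Field k] [IsAlgClosed k] {X : Scheme.{u}} [X.Over (Spec (CommRingCat.of k))]
    [IsProper (X ↘ (Spec (CommRingCat.of k)))] (hdim : topologicalKrullDim X ≤ 1)
    (h1 : Subsingleton (Coh.HH X (Coh.structureModule X) 1)) {L : X.Modules} (hL : FlatMod.IsFinLocFree L)
    (hcomp : ∀ J : X.IdealSheafData, IsIntegral J.subscheme → topologicalKrullDim J.subscheme = 1 →
      Curv2.IsGloballyGenerated ((Scheme.Modules.pullback J.subschemeι).obj L)) :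
    Curv2.IsGloballyGenerated L := by
  have h := main_aux (k := k) hdim h1 hL hcomp _ X (𝟙 X) rfl
  exact Ega2.GlobGenCrit.isGloballyGenerated_of_iso ((Scheme.Modules.pullbackId X).app L) h

end K417.VBStep
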